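import Groth.Agent.Lib.H12.FlatComp
import Mathlib.AlgebraicGeometry.Properties
import Mathlib.AlgebraicGeometry.AffineScheme
import Mathlib.Topology.NoetherianSpace
import Mathlib.RingTheory.Spectrum.Prime.Topology
import Mathlib.RingTheory.Localization.AtPrime.Basic

/-!
# Schemes with domain stalks and locally noetherian space are locally integral

`exists_isIntegral_nhd`.
-/

set_option autoImplicit false
set_option linter.style.haveILetI false

universe u

open CategoryTheory AlgebraicGeometry TopologicalSpace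

namespace Groth.Agent.LocInteg12

/-- A prime with domain localisation lies over a unique minimal prime. -/
theorem minimalPrimes_eq {A : Type u} [CommRing A] {p q q' : Ideal A} [p.IsPrime]
    [IsDomain (Localization.AtPrime p)] (hq : q ∈ minimalPrimes A) (hq' : q' ∈ minimalPrimes A)
    (hqp : q ≤ p) (hqp' : q' ≤ p) : q = q' := by
  let L := Localization.AtPrime p
  let K := RingHom.ker (algebraMap A L)
  haveI : K.IsPrime := RingHom.ker_isPrime _
  have key : ∀ r : Ideal A, r ∈ minimalPrimes A → r ≤ p → r = K := fun r hr hrp => by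
    haveI : r.IsPrime := hr.1.1
    refine le_antisymm (hr.2 ⟨inferInstance, bot_le⟩ ?_) ?_
    · intro a ha
      obtain ⟨s, hs⟩ := (IsLocalization.map_eq_zero_iff p.primeCompl L a).1 ha
      exact ((inferInstance : r.IsPrime).mem_or_mem (hs ▸ r.zero_mem)).resolve_left fun h => s.2 (hrp h)
    · intro a ha
      obtain ⟨s, hs⟩ := (IsLocalization.map_eq_zero_iff p.primeCompl L a).1 ha
      exact ((inferInstance : r.IsPrime).mem_or_mem (hs ▸ r.zero_mem)).resolve_left fun h => s.2 (hrp h)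
  exact (key q hq hqp).trans (key q' hq' hqp').symm

theorem exists_isIntegral_nhd {Y : Scheme.{u}} (hY : ∀ y : Y, ∃ U : Y.Opens, y ∈ U ∧ NoetherianSpace U)
    (hdom : ∀ y : Y, IsDomain (Y.presheaf.stalk y)) (y : Y) :
    ∃ U : Y.Opens, y ∈ U ∧ IsIntegral (U : Scheme.{u}) := by
  obtain ⟨U₀, hyU₀, hU₀⟩ := hY y
  obtain ⟨V, hV, hyV, hVU⟩ := exists_isAffineOpen_mem_and_subset (X := Y) (x := y) (U := U₀) hyU₀
  haveI : NoetherianSpace ((U₀ : Set Y) : Type u) := hU₀
  haveI : NoetherianSpace V :=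
    (Topology.IsEmbedding.inclusion hVU).isInducing.noetherianSpace
  haveI : NoetherianSpace (PrimeSpectrum Γ(Y, V)) :=
    hV.isoSpec.hom.homeomorph.symm.isInducing.noetherianSpace
  have hfin : (minimalPrimes Γ(Y, V)).Finite := by
    have := NoetherianSpace.finite_irreducibleComponents (α := PrimeSpectrum Γ(Y, V))
    rw [← PrimeSpectrum.zeroLocus_minimalPrimes] at this
    exact Set.Finite.of_finite_image this (fun q hq q' hq' h => by
      haveI := hq.1.1; haveI := hq'.1.1
      have := congrArg PrimeSpectrum.vanishingIdeal h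
      simp only [Function.comp_apply] at this
      rwa [PrimeSpectrum.vanishingIdeal_zeroLocus_eq_radical, PrimeSpectrum.vanishingIdeal_zeroLocus_eq_radical,
        Ideal.IsPrime.radical inferInstance, Ideal.IsPrime.radical inferInstance] at this)
  let p := hV.primeIdealOf ⟨y, hyV⟩
  haveI := hdom y
  letI : Algebra Γ(Y, V) (Y.presheaf.stalk y) := (Y.presheaf.germ V y hyV).hom.toAlgebra
  haveI : IsLocalization.AtPrime (Y.presheaf.stalk y) p.asIdeal := hV.isLocalization_stalk ⟨y, hyV⟩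
  haveI : IsDomain (Localization.AtPrime p.asIdeal) :=
    Function.Injective.isDomain
      (IsLocalization.algEquiv p.asIdeal.primeCompl (Localization.AtPrime p.asIdeal) (Y.presheaf.stalk y)).toRingEquiv.toRingHom
      (IsLocalization.algEquiv p.asIdeal.primeCompl (Localization.AtPrime p.asIdeal) (Y.presheaf.stalk y)).injective
  obtain ⟨q₀, hq₀, hq₀p⟩ := Ideal.exists_minimalPrimes_le (I := (⊥ : Ideal Γ(Y, V))) (J := p.asIdeal) bot_le
  let S := hfin.toFinset.erase q₀
  have hS : ¬ S.inf id ≤ p.asIdeal := fun h => by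
    obtain ⟨q, hq, hqp⟩ := (Ideal.IsPrime.inf_le' (inferInstance : p.asIdeal.IsPrime)).1 h
    rw [Finset.mem_erase, Set.Finite.mem_toFinset] at hq
    exact hq.1 (minimalPrimes_eq hq.2 hq₀ hqp hq₀p)
  obtain ⟨g, hgS, hgp⟩ := SetLike.not_le_iff_exists.1 hS
  have hmem : ∀ z : Y, ∀ hz : z ∈ V, z ∈ Y.basicOpen g ↔ g ∉ (hV.primeIdealOf ⟨z, hz⟩).asIdeal := fun z hz => by
    have h := hV.fromSpec_primeIdealOf ⟨z, hz⟩
    refine Iff.trans (iff_of_eq (congrArg (· ∈ Y.basicOpen g) h.symm)) ?_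
    show hV.primeIdealOf ⟨z, hz⟩ ∈ hV.fromSpec ⁻¹ᵁ Y.basicOpen g ↔ _
    rw [hV.fromSpec_preimage_basicOpen]
    rfl
  haveI : q₀.IsPrime := hq₀.1.1
  have hgq₀ : g ∉ q₀ := fun h => hgp (hq₀p h)
  let η : Y := hV.fromSpec ⟨q₀, inferInstance⟩
  have hη : η ∈ Y.basicOpen g := by
    show (⟨q₀, inferInstance⟩ : PrimeSpectrum Γ(Y, V)) ∈ hV.fromSpec ⁻¹ᵁ Y.basicOpen g
    rw [hV.fromSpec_preimage_basicOpen]
    exact hgq₀
  have hgen : ∀ z ∈ Y.basicOpen g, η ⤳ z := fun z hz => by
    have hzV := Y.basicOpen_le g hz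
    have h1 := (hmem z hzV).1 hz
    obtain ⟨q, hq, hqz⟩ := Ideal.exists_minimalPrimes_le (I := (⊥ : Ideal Γ(Y, V)))
      (J := (hV.primeIdealOf ⟨z, hzV⟩).asIdeal) bot_le
    have hqq : q = q₀ := by
      by_contra hne
      exact h1 (hqz ((Finset.inf_le (f := id) (Finset.mem_erase.2 ⟨hne, hfin.mem_toFinset.2 hq⟩) :
        S.inf id ≤ q) hgS))
    subst hqq
    refine Eq.subst (motive := fun w => η ⤳ w) (hV.fromSpec_primeIdealOf ⟨z, hzV⟩) ?_
    exact Specializes.map ((PrimeSpectrum.le_iff_specializes ⟨q, inferInstance⟩ _).1 hqz) hV.fromSpec.continuous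
  refine ⟨Y.basicOpen g, (hmem y hyV).2 hgp, ?_⟩
  haveI : IrreducibleSpace (Y.basicOpen g : Scheme.{u}) := by
    haveI : Nonempty (Y.basicOpen g : Scheme.{u}) := ⟨⟨η, hη⟩⟩
    refine (irreducibleSpace_def _).2 ⟨Set.univ_nonempty, fun u v hu hv ⟨a, _, ha⟩ ⟨b, _, hb⟩ => ?_⟩
    have hs : ∀ c : (Y.basicOpen g : Scheme.{u}), (⟨η, hη⟩ : (Y.basicOpen g : Scheme.{u})) ⤳ c := fun c =>
      (Topology.IsInducing.subtypeVal.specializes_iff).1 (hgen c.1 c.2)
    exact ⟨⟨η, hη⟩, trivial, (hs a).mem_open hu ha, (hs b).mem_open hv hb⟩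
  haveI : ∀ z : (Y.basicOpen g : Scheme.{u}), IsReduced ((Y.basicOpen g : Scheme.{u}).presheaf.stalk z) := fun z =>
    haveI := hdom z.1
    isReduced_of_injective ((Y.basicOpen g).stalkIso z).hom.hom
      ((Y.basicOpen g).stalkIso z).commRingCatIsoToRingEquiv.injective
  haveI := isReduced_of_isReduced_stalk (Y.basicOpen g : Scheme.{u})
  exact isIntegral_of_irreducibleSpace_of_isReduced _

theorem isDomain_stalk_of_flat {X Y : Scheme.{u}} (f : X ⟶ Y) [Flat f] [Surjective f]
    (hX : ∀ x : X, IsDomain (X.presheaf.stalk x)) (y : Y) : IsDomain (Y.presheaf.stalk y) := by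
  obtain ⟨x, rfl⟩ := f.surjective y
  haveI := hX x
  exact Function.Injective.isDomain (f.stalkMap x).hom
    (H12.faithfullyFlat_stalkMap f x (Flat.stalkMap f x)).injective

end Groth.Agent.LocInteg12
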